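import Cfsg.Agent.H743.GG.CountAbs

/-!
# The counting theorem, uniqueness (S4829, own characteristic; helper655)

In the situation of `H743.GG.count_abs`: a series `R l` with `[R l, Γ] = 1` has exactly one constituent `χ` with `[χ, Ξ] ≠ 0`.
-/

set_option autoImplicit false

open Cfsg Cfsg.Agent.Characters Cfsg.Agent.H743.GG
open scoped ComplexConjugate

namespace Cfsg.Agent.H655.OC

variable {G : Type*} [Group G] [Fintype G]

/-- two common constituents -/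
theorem eq_of_inner_one {α Γ : G → ℂ} (hα : IsCharacter G α) (hΓ : IsCharacter G Γ) (h1 : classInner α Γ = 1)
    {ψ φ : IrrCharacter G} (a1 : classInner α (ψ : G → ℂ) ≠ 0) (a2 : classInner Γ (ψ : G → ℂ) ≠ 0)
    (b1 : classInner α (φ : G → ℂ) ≠ 0) (b2 : classInner Γ (φ : G → ℂ) ≠ 0) : ψ = φ := by
  classical
  have : Finite (IrrCharacter G) := Core.finite_irr
  let _ : Fintype (IrrCharacter G) := Fintype.ofFinite _
  by_contra hne
  rw [Core.classInner_eq_sum (Core.isCharacter_isClassFunction hα) (Core.isCharacter_isClassFunction hΓ)] at h1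
  have key : ∀ θ : IrrCharacter G, ∃ m : ℕ, classInner α (θ : G → ℂ) * conj (classInner Γ (θ : G → ℂ)) = m := by
    intro θ
    obtain ⟨a, ha⟩ := Core.classInner_isNat hα (Core.isIrr_isCharacter θ.2)
    obtain ⟨b, hb⟩ := Core.classInner_isNat hΓ (Core.isIrr_isCharacter θ.2)
    exact ⟨a * b, by rw [ha, hb]; simp⟩
  choose m hm using key
  rw [Finset.sum_congr rfl fun θ _ => hm θ] at h1
  have h8 : ∑ θ : IrrCharacter G, m θ = 1 := by exact_mod_cast h1
  have hge : ∀ θ : IrrCharacter G, classInner α (θ : G → ℂ) ≠ 0 → classInner Γ (θ : G → ℂ) ≠ 0 → 1 ≤ m θ := by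
    intro θ c1 c2
    rw [Nat.one_le_iff_ne_zero]
    intro h0
    have h10 := hm θ
    rw [h0, Nat.cast_zero] at h10
    rcases mul_eq_zero.1 h10 with h11 | h11
    · exact c1 h11
    · rw [map_eq_zero] at h11
      exact c2 h11
  have h9 := hge ψ a1 a2
  have h9' := hge φ b1 b2
  have h10 : ∑ θ ∈ ({ψ, φ} : Finset (IrrCharacter G)), m θ ≤ ∑ θ : IrrCharacter G, m θ :=
    Finset.sum_le_sum_of_subset (Finset.subset_univ _)
  rw [Finset.sum_pair hne, h8] at h10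
  omega

/-- **The counting theorem, uniqueness.** -/
theorem unique_abs {Γ Ξ : G → ℂ} (hΓ : IsCharacter G Γ)
    (hmf : ∀ χ, IsIrrCharacter G χ → classInner Γ χ = 0 ∨ classInner Γ χ = 1)
    (hΞ : IsClassFunction G Ξ) (hint : ∀ χ, IsIrrCharacter G χ → ∃ k : ℤ, classInner Ξ χ = k)
    {N M : ℕ} (hN : classInner Ξ Ξ = N) (hM : classInner Γ Γ = M) (hle : N ≤ M)
    {Λ : Type*} (R : Λ → G → ℂ) (hR : ∀ l, IsCharacter G (R l))
    (h1 : ∀ χ, IsIrrCharacter G χ → ∃ l, classInner (R l) χ ≠ 0)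
    (h2 : ∀ l m, classInner (R l) (R m) ≠ 0 → R l = R m)
    (h3 : ∀ l, classInner (R l) Γ = 0 ∨ classInner (R l) Γ = 1)
    (h4 : ∀ l, classInner (R l) Ξ = classInner (R l) Γ ∨ classInner (R l) Ξ = -classInner (R l) Γ)
    {l₀ : Λ} (hl₀ : classInner (R l₀) Γ = 1) {χ χ' : IrrCharacter G}
    (c1 : classInner (R l₀) (χ : G → ℂ) ≠ 0) (c2 : classInner Ξ (χ : G → ℂ) ≠ 0)
    (d1 : classInner (R l₀) (χ' : G → ℂ) ≠ 0) (d2 : classInner Ξ (χ' : G → ℂ) ≠ 0) : χ = χ' := by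
  classical
  have : Finite (IrrCharacter G) := Core.finite_irr
  let _ : Fintype (IrrCharacter G) := Fintype.ofFinite _
  have hΓc := Core.isCharacter_isClassFunction hΓ
  -- the constituents of `Γ`
  let S : Finset (IrrCharacter G) := Finset.univ.filter fun ψ => classInner Γ (ψ : G → ℂ) ≠ 0
  let D : Finset (IrrCharacter G) := Finset.univ.filter fun ψ => classInner Ξ (ψ : G → ℂ) ≠ 0
  have hS : S.card = M := by
    have h5 := Core.classInner_eq_sum hΓc hΓc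
    rw [hM] at h5
    have h6 : ∀ ψ : IrrCharacter G, classInner Γ (ψ : G → ℂ) * conj (classInner Γ (ψ : G → ℂ)) =
        if classInner Γ (ψ : G → ℂ) ≠ 0 then 1 else 0 := by
      intro ψ
      rcases hmf _ ψ.2 with h7 | h7
      · rw [h7]; simp
      · rw [h7]; simp
    rw [Finset.sum_congr rfl fun ψ _ => h6 ψ, Finset.sum_boole] at h5
    exact_mod_cast h5.symm
  -- choose the series
  choose l hl using fun ψ : IrrCharacter G => h1 _ ψ.2
  have hΓl : ∀ ψ ∈ S, classInner (R (l ψ)) Γ = 1 := by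
    intro ψ hψ
    rcases h3 (l ψ) with h5 | h5
    · exfalso
      exact inner_ne_zero (hR _) hΓ ψ.2 (hl ψ) (Finset.mem_filter.1 hψ).2 h5
    · exact h5
  have hex : ∀ ψ ∈ S, ∃ ξ : IrrCharacter G, classInner (R (l ψ)) (ξ : G → ℂ) ≠ 0 ∧ classInner Ξ (ξ : G → ℂ) ≠ 0 := by
    intro ψ hψ
    by_contra hcon
    push Not at hcon
    have h5 : classInner (R (l ψ)) Ξ ≠ 0 := by
      rcases h4 (l ψ) with h6 | h6
      · rw [h6, hΓl ψ hψ]; exact one_ne_zero
      · rw [h6, hΓl ψ hψ]; exact neg_ne_zero.2 one_ne_zero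
    apply h5
    rw [Core.classInner_eq_sum (Core.isCharacter_isClassFunction (hR _)) hΞ]
    refine Finset.sum_eq_zero fun ξ _ => ?_
    by_cases h6 : classInner (R (l ψ)) (ξ : G → ℂ) = 0
    · rw [h6, zero_mul]
    · rw [hcon ξ h6, map_zero, mul_zero]
  choose! ξ hξ1 hξ2 using hex
  have hinj : Set.InjOn ξ (S : Set (IrrCharacter G)) := by
    intro ψ hψ φ hφ he
    have hψ' : ψ ∈ S := hψ
    have hφ' : φ ∈ S := hφ
    have h5 : classInner (R (l ψ)) (R (l φ)) ≠ 0 :=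
      inner_ne_zero (hR _) (hR _) (ξ ψ).2 (hξ1 ψ hψ') (by rw [he]; exact hξ1 φ hφ')
    have h6 := h2 _ _ h5
    exact eq_of_inner_one (hR _) hΓ (hΓl ψ hψ) (hl ψ) (Finset.mem_filter.1 hψ').2 (by rw [h6]; exact hl φ)
      (Finset.mem_filter.1 hφ').2
  have hmaps : Set.MapsTo ξ (S : Set (IrrCharacter G)) (D : Set (IrrCharacter G)) := fun ψ hψ =>
    Finset.mem_filter.2 ⟨Finset.mem_univ _, hξ2 ψ hψ⟩
  -- the norm of `Ξ`
  choose k hk using fun ψ : IrrCharacter G => hint _ ψ.2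
  have hnorm : (∑ ψ : IrrCharacter G, (k ψ) ^ 2 : ℤ) = N := by
    have h5 := Core.classInner_eq_sum hΞ hΞ
    rw [hN] at h5
    have h6 : ∀ ψ : IrrCharacter G, classInner Ξ (ψ : G → ℂ) * conj (classInner Ξ (ψ : G → ℂ)) = ((k ψ ^ 2 : ℤ) : ℂ) := by
      intro ψ
      rw [hk ψ]
      push_cast
      rw [map_intCast, sq]
    rw [Finset.sum_congr rfl fun ψ _ => h6 ψ] at h5
    exact_mod_cast h5.symm
  have hD : ∀ ψ, ψ ∈ D ↔ k ψ ≠ 0 := by
    intro ψ
    rw [Finset.mem_filter, hk ψ, Int.cast_ne_zero]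
    exact ⟨fun h => h.2, fun h => ⟨Finset.mem_univ _, h⟩⟩
  have hsum : (∑ ψ ∈ D, (k ψ) ^ 2 : ℤ) = N := by
    rw [← hnorm]
    refine Finset.sum_subset (Finset.subset_univ _) fun ψ _ hψ => ?_
    rw [hD, not_not] at hψ
    rw [hψ]; norm_num
  have hDN : D.card ≤ S.card := by
    have h5 : (D.card : ℤ) ≤ ∑ ψ ∈ D, (k ψ) ^ 2 := by
      rw [Finset.card_eq_sum_ones]
      push_cast
      refine Finset.sum_le_sum fun ψ hψ => ?_
      rw [hD] at hψ
      have := sq_nonneg (k ψ)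
      have h5 : k ψ ^ 2 ≠ 0 := pow_ne_zero _ hψ
      omega
    rw [hsum] at h5
    rw [hS]
    exact le_trans (by exact_mod_cast h5) hle
  have hsurj := Finset.surjOn_of_injOn_of_card_le ξ hmaps hinj hDN
  have main : ∀ χ : IrrCharacter G, classInner (R l₀) (χ : G → ℂ) ≠ 0 → classInner Ξ (χ : G → ℂ) ≠ 0 →
      ∃ ψ ∈ S, ξ ψ = χ ∧ classInner (R l₀) (ψ : G → ℂ) ≠ 0 := by
    intro χ e1 e2
    obtain ⟨ψ, hψ, he⟩ := hsurj (show χ ∈ (D : Set (IrrCharacter G)) from Finset.mem_filter.2 ⟨Finset.mem_univ _, e2⟩)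
    refine ⟨ψ, hψ, he, ?_⟩
    have h5 : classInner (R l₀) (R (l ψ)) ≠ 0 :=
      inner_ne_zero (hR _) (hR _) χ.2 e1 (by rw [← he]; exact hξ1 ψ hψ)
    rw [h2 _ _ h5]
    exact hl ψ
  obtain ⟨ψ, hψ, e1, e2⟩ := main χ c1 c2
  obtain ⟨φ, hφ, f1, f2⟩ := main χ' d1 d2
  rw [← e1, ← f1, eq_of_inner_one (hR _) hΓ hl₀ e2 (Finset.mem_filter.1 hψ).2 f2 (Finset.mem_filter.1 hφ).2]

end Cfsg.Agent.H655.OC
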